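import Groth.Agent.PerfB.RingKFlat

/-!
# Abstract charts, Tor-amplitude bounds, hits (S16912, formal end, F3)

`CM A`: cochain complexes of `A`-modules; `tens K L`: total tensor product (Mathlib's).
`TorGE a K`: `H^i(K ⊗ L) = 0` for `i < a` and all flat resolutions `L` (flat terms in degrees `≤ 0`, exact in
degrees `< 0`).
`Chart A C`: exact faithful `us : C ⥤ Mod A` with exact right adjoint `ul`, `ul ⋙ us` preserving `TorGE a`.
`Chart.Hit`: every element of `us Z` is hit by some complex of Tor-amplitude `≥ a`, some `a`.
`Chart.EF`: every object is a quotient of a flat object.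
-/

set_option autoImplicit false

universe w v u

open CategoryTheory CategoryTheory.Limits MonoidalCategory HomologicalComplex

namespace Groth.Agent.ResProp.EF.K294

open Groth.Agent.PerfB.RingKFlat

/-- Cochain complexes of `A`-modules. -/
abbrev CM (A : Type u) [CommRing A] := CochainComplex (ModuleCat.{u} A) ℤ

variable {A : Type u} [CommRing A]

/-- The total tensor product of two complexes. -/
noncomputable abbrev tens (K L : CM A) : CM A := ((TR A).map₂CochainComplex.obj K).obj L

/-- Flat resolutions: complexes of flat modules in degrees `≤ 0`, exact in degrees `< 0`. -/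
structure IsTest (L : CM A) : Prop where
  le : L.IsStrictlyLE 0
  flat : ∀ n : ℤ, Module.Flat A (L.X n)
  exact : ∀ i : ℤ, i < 0 → L.ExactAt i

/-- Tor-amplitude `≥ a`. -/
def TorGE (a : ℤ) (K : CM A) : Prop :=
  ∀ L : CM A, IsTest L → ∀ i : ℤ, i < a → (tens K L).ExactAt i

/-- An abstract flat chart `v : Spec A → X`: `C = QCoh X`, `us = v^*`, `ul = v_*`. -/
structure Chart (A : Type u) [CommRing A] (C : Type v) [Category.{w} C] [Abelian C] where
  us : C ⥤ ModuleCat.{u} A
  ul : ModuleCat.{u} A ⥤ C
  adj : us ⊣ ul
  additive_us : us.Additive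
  additive_ul : ul.Additive
  exact_us : PreservesFiniteLimits us
  faithful_us : us.Faithful
  exact_ul : PreservesFiniteColimits ul
  torGE_ul : ∀ (a : ℤ) (K : CM A), TorGE a K →
    TorGE a (((ul ⋙ us).mapHomologicalComplex (ComplexShape.up ℤ)).obj K)

attribute [instance] Chart.additive_us Chart.additive_ul Chart.exact_us Chart.faithful_us Chart.exact_ul

namespace Chart

variable {C : Type v} [Category.{w} C] [Abelian C] (X : Chart A C)

/-- `us` on complexes. -/
noncomputable abbrev usC : CochainComplex C ℤ ⥤ CM A := X.us.mapHomologicalComplex (ComplexShape.up ℤ)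

/-- `ul` on complexes. -/
noncomputable abbrev ulC : CM A ⥤ CochainComplex C ℤ := X.ul.mapHomologicalComplex (ComplexShape.up ℤ)

/-- the complex `T`, the degree `0` cocycle `t` of `us T` and the map `T ⟶ Z[0]` (given by `f` on `T^0`) hit `z`. -/
structure IsHit (T : CochainComplex C ℤ) {Z : C} (z : X.us.obj Z) : Prop where
  out : ∃ (f : T.X 0 ⟶ Z) (t : X.us.obj (T.X 0)), T.d (-1) 0 ≫ f = 0 ∧
    (X.us.map (T.d 0 1)).hom t = 0 ∧ (X.us.map f).hom t = z

/-- every element of every object is hit by some complex with some lower Tor bound (depending on everything). -/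
def Hit : Prop := ∀ (Z : C) (z : X.us.obj Z), ∃ (a : ℤ) (T : CochainComplex C ℤ),
  TorGE a (X.usC.obj T) ∧ X.IsHit T z

/-- every object is a quotient of a flat object. -/
def EF : Prop := ∀ M : C, ∃ (F : C) (p : F ⟶ M), Epi p ∧ Module.Flat A (X.us.obj F)

/-- F3 (theorem `hitToEF` in `K294.HitEF`). -/
def HitToEF : Prop := X.Hit → X.EF

end Chart

end Groth.Agent.ResProp.EF.K294
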