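import Groth.Agent.ResProp.EF.K294.Step
import Groth.Agent.ResProp.EF.K290.Tower

/-!
# F3: `Chart.Hit → Chart.EF`
-/

set_option autoImplicit false

universe w v u

open CategoryTheory CategoryTheory.Limits HomologicalComplex

namespace Groth.Agent.ResProp.EF.K294

namespace Chart

variable {A : Type u} [CommRing A] {C : Type v} [Category.{w} C] [Abelian C] (X : Chart A C)

/-- one P-step keeps hits -/
lemma IsHit.step {a : ℤ} (ha : a < 0) {T : CochainComplex C ℤ} (h : TorGE a (X.usC.obj T)) {Z : C}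
    {z : X.us.obj Z} (hz : X.IsHit T z) :
    ∃ T₁ : CochainComplex C ℤ, TorGE (a + 1) (X.usC.obj T₁) ∧ X.IsHit T₁ z := by
  obtain ⟨f, t, h1, h2, h3⟩ := hz.out
  obtain ⟨T₁, p, h4, h5⟩ := X.step ha T h
  obtain ⟨t₁, h6, h7⟩ := h5 t h2
  refine ⟨T₁, h4, ⟨⟨p.f 0 ≫ f, t₁, ?_, h6, ?_⟩⟩⟩
  · rw [← p.comm_assoc, h1, comp_zero]
  · rw [Functor.map_comp, ModuleCat.hom_comp, LinearMap.comp_apply, h7, h3]

/-- all hits by Tor-amplitude `≥ 0` -/
theorem Hit.zero (h : X.Hit) (Z : C) (z : X.us.obj Z) :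
    ∃ T : CochainComplex C ℤ, TorGE 0 (X.usC.obj T) ∧ X.IsHit T z := by
  obtain ⟨a, T, hT, hz⟩ := h Z z
  have key : ∀ (n : ℕ) (T : CochainComplex C ℤ), TorGE (-(n : ℤ)) (X.usC.obj T) → X.IsHit T z →
      ∃ T' : CochainComplex C ℤ, TorGE 0 (X.usC.obj T') ∧ X.IsHit T' z := by
    intro n
    induction n with
    | zero => exact fun T h1 h2 => ⟨T, by simpa using h1, h2⟩
    | succ n ih =>
      intro T h1 h2
      obtain ⟨T₁, h3, h4⟩ := h2.step X (a := -((n + 1 : ℕ) : ℤ)) (by omega) h1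
      refine ih T₁ ?_ h4
      have : -((n + 1 : ℕ) : ℤ) + 1 = -(n : ℤ) := by push_cast; ring
      rwa [this] at h3
  exact key a.natAbs T (hT.mono (by omega)) hz

variable [HasCoproducts.{u} C] [HasColimitsOfShape ℕ C]

/-- **F3.** -/
theorem hitToEF : X.HitToEF := by
  intro h M
  have := X.preservesColimitsOfShape_us ℕ
  obtain ⟨E, p, hp, hE⟩ := K290.exists_flat_cover (F := X.us) (B := X.torBd) (fun Z z => by
    obtain ⟨T, h1, h2⟩ := h.zero X Z z
    obtain ⟨f, t, h3, h4, h5⟩ := h2.out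
    exact ⟨T, h1, f, t, h3, h4, h5⟩) M
  exact ⟨E, p, hp, hE⟩

end Chart

end Groth.Agent.ResProp.EF.K294
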