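import Groth.Agent.ResProp.EF.K294.Defs
import Groth.Agent.Dcoh.KFlatFlip
import Groth.Agent.Dcoh.KFlatSES
import Groth.Agent.Htor.H240.FlatTens

/-!
# Closure properties of `TorGE`
-/

set_option autoImplicit false
set_option backward.defeqAttrib.useBackward true
set_option backward.isDefEq.respectTransparency false

universe w' w v u

open CategoryTheory CategoryTheory.Limits MonoidalCategory HomologicalComplex

namespace Groth.Agent.ResProp.EF.K294

open Groth.Agent.Dcoh.KFlatAbs Groth.Agent.Dcoh.KFlatSingle Groth.Agent.Dcoh.KFlatBdd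
  Groth.Agent.PerfB.RingKFlat Groth.Agent.Dcoh.KFlatFlip Groth.Agent.Dcoh.KFlatSES
  Groth.Agent.Htor.H240.FlatTens

variable {A : Type u} [CommRing A]

/-- `K ↦ tens K L`. -/
noncomputable abbrev tensR (L : CM A) : CM A ⥤ CM A := (TR A).map₂CochainComplex.flip.obj L

section basic

lemma IsTest.kfl {L : CM A} (hL : IsTest L) : KFl (TR A) L := by
  have := hL.le
  exact Groth.Agent.Htor.H240.FlatTens.kfl L hL.flat (b := 0)
    (fun i hi => (CochainComplex.isStrictlyLE_iff L 0).1 this i hi)

lemma TorGE.mono {a b : ℤ} (hab : a ≤ b) {K : CM A} (h : TorGE b K) : TorGE a K :=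
  fun L hL i hi => h L hL i (by omega)

lemma exactAt_of_iso {K K' : CM A} (e : K ≅ K') {i : ℤ} (h : K.ExactAt i) : K'.ExactAt i := h.of_iso e

lemma TorGE.of_iso {a : ℤ} {K K' : CM A} (e : K ≅ K') (h : TorGE a K) : TorGE a K' :=
  fun L hL i hi => (h L hL i hi).of_iso ((tensR L).mapIso e)

lemma torGE_iff_of_quasiIso {a : ℤ} {K K' : CM A} (f : K ⟶ K') [QuasiIso f] : TorGE a K ↔ TorGE a K' := by
  refine forall_congr' fun L => forall_congr' fun hL => forall_congr' fun i => forall_congr' fun _ => ?_
  have := hL.kfl.quasiIso f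
  exact exactAt_iff_of_quasiIsoAt (((TR A).map₂CochainComplex.map f).app L) i

lemma TorGE.of_acyclic {a : ℤ} {K : CM A} (h : K.Acyclic) : TorGE a K :=
  fun _ hL i _ => hL.kfl K h i

/-- `TorGE` passes to retracts. -/
lemma TorGE.of_retract {a : ℤ} {K K' : CM A} (s : K' ⟶ K) (r : K ⟶ K') (h : s ≫ r = 𝟙 _) (hK : TorGE a K) :
    TorGE a K' := by
  intro L hL i hi
  have h1 := hK L hL i hi
  rw [exactAt_iff_isZero_homology] at h1 ⊢
  rw [IsZero.iff_id_eq_zero]
  have h2 : homologyMap ((tensR L).map s) i ≫ homologyMap ((tensR L).map r) i = 𝟙 _ := by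
    rw [← homologyMap_comp, ← Functor.map_comp, h, CategoryTheory.Functor.map_id, homologyMap_id]
  exact h2.symm.trans (by rw [h1.eq_of_tgt (homologyMap ((tensR L).map s) i) 0, zero_comp])

end basic

section ses

/-- `ModuleCat A` is AB4 for coproducts indexed by types of the universe of `A`. -/
lemma hasExactColimitsOfShape_discrete (A : Type u) [CommRing A] (J : Type u) :
    HasExactColimitsOfShape (Discrete J) (ModuleCat.{u} A) := by
  have : HasFiniteBiproducts (ModuleCat.{u} A) := Abelian.hasFiniteBiproducts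
  have : AB4 (ModuleCat.{u} A) := inferInstance
  exact AB4OfSize.ofShape J

lemma shortExact_tens {S : ShortComplex (CM A)} (hS : S.ShortExact) {L : CM A} (hL : IsTest L) :
    (S.map (tensR L)).ShortExact := by
  have : HasExactColimitsOfShape ℕ (ModuleCat.{u} A) := hasExactColimitsOfShape_nat A
  have : CountableAB4 (ModuleCat.{u} A) := by
    have : HasFiniteBiproducts (ModuleCat.{u} A) := Abelian.hasFiniteBiproducts
    have : HasFilteredColimitsOfSize.{0, 0} (ModuleCat.{u} A) := inferInstance
    have : AB5OfSize.{0, 0} (ModuleCat.{u} A) := AB5OfSize_of_univLE.{0, 0, u, u} (ModuleCat.{u} A)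
    exact CountableAB4.of_countableAB5 _
  refine shortExact_map_flip (TR A) L S (fun p q => ?_)
  have h1 : (S.map (eval (ModuleCat.{u} A) (ComplexShape.up ℤ) p)).ShortExact := hS.map_of_exact (eval _ _ p)
  have h2 := hL.flat q
  have h3 : ((TR A).flip.obj (L.X q)).PreservesHomology := preservesHomology_tensorRight _ h2
  exact h1.map_of_exact _

variable {S : ShortComplex (CM A)} (hS : S.ShortExact)

include hS

lemma TorGE.ses₂ {a : ℤ} (h₁ : TorGE a S.X₁) (h₃ : TorGE a S.X₃) : TorGE a S.X₂ := by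
  intro L hL i hi
  exact (shortExact_tens hS hL).exactAt_X₂ i (h₁ L hL i hi) (h₃ L hL i hi)

lemma TorGE.ses₁ {a : ℤ} (h₂ : TorGE a S.X₂) (h₃ : TorGE (a - 1) S.X₃) : TorGE a S.X₁ := by
  intro L hL i hi
  have h2 := h₂ L hL i hi
  rw [exactAt_iff_isZero_homology] at h2 ⊢
  have h3 := h₃ L hL (i - 1) (by omega)
  rw [exactAt_iff_isZero_homology] at h3
  exact ((shortExact_tens hS hL).homology_exact₁ (i - 1) i (by simp)).isZero_X₂
    (h3.eq_of_src _ _) (h2.eq_of_tgt _ _)

lemma TorGE.ses₃ {a : ℤ} (h₁ : TorGE (a + 1) S.X₁) (h₂ : TorGE a S.X₂) : TorGE a S.X₃ := by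
  intro L hL i hi
  have h2 := h₂ L hL i hi
  rw [exactAt_iff_isZero_homology] at h2 ⊢
  have h1 := h₁ L hL (i + 1) (by omega)
  rw [exactAt_iff_isZero_homology] at h1
  exact ((shortExact_tens hS hL).homology_exact₃ i (i + 1) (by simp)).isZero_X₂
    (h2.eq_of_src _ _) (h1.eq_of_tgt _ _)

end ses

section shift

lemma exactAt_shift_iff (K : CM A) (n i : ℤ) : (K⟦n⟧).ExactAt i ↔ K.ExactAt (n + i) := by
  rw [exactAt_iff_isZero_homology, exactAt_iff_isZero_homology]
  exact (((homologyFunctor (ModuleCat.{u} A) (ComplexShape.up ℤ) 0).shiftIso n i (n + i) rfl).app K).isZero_iff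

lemma torGE_shift_iff {a : ℤ} (K : CM A) (n : ℤ) : TorGE a (K⟦n⟧) ↔ TorGE (a + n) K := by
  have key : ∀ (L : CM A) (i : ℤ), (tens (K⟦n⟧) L).ExactAt i ↔ (tens K L).ExactAt (n + i) := by
    intro L i
    rw [← exactAt_shift_iff]
    exact ⟨fun h => h.of_iso (((tensR L).commShiftIso n).app K),
      fun h => h.of_iso (((tensR L).commShiftIso n).app K).symm⟩
  constructor
  · intro h L hL i hi
    have := (key L (i - n)).1 (h L hL (i - n) (by omega))
    rwa [show n + (i - n) = i by omega] at this
  · intro h L hL i hi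
    exact (key L i).2 (h L hL (n + i) (by omega))

end shift

section colim

variable {J : Type w} [Category.{w'} J]

lemma TorGE.of_isColimit {a : ℤ} [HasColimitsOfShape J (ModuleCat.{u} A)]
    [HasExactColimitsOfShape J (ModuleCat.{u} A)]
    [∀ M : ModuleCat.{u} A, PreservesColimitsOfShape J (tensorLeft M)]
    {K : J ⥤ CM A} {c : Cocone K} (hc : IsColimit c)
    (h : ∀ j, TorGE a (K.obj j)) : TorGE a c.pt := by
  intro L hL i hi
  have h1 : ∀ M : ModuleCat.{u} A, PreservesColimitsOfShape J ((TR A).flip.obj M) := fun M =>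
    preservesColimitsOfShape_of_natIso (BraidedCategory.tensorLeftIsoTensorRight M)
  have := preservesColimitsOfShape_flip_obj (TR A) J L
  exact Groth.Agent.Dcoh.HomColim.exactAt_of_isColimit i (isColimitOfPreserves (tensR L) hc)
    (fun j => h j L hL i hi)

end colim

section mappingCone

open CochainComplex

/-- the short exact sequence `0 → K' → cone φ → K⟦1⟧ → 0`. -/
lemma shortExact_cone {D : Type v} [Category.{w} D] [Abelian D] {K K' : CochainComplex D ℤ} (φ : K ⟶ K') :
    (CochainComplex.mappingCone.triangleRotateShortComplex φ).ShortExact :=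
  HomologicalComplex.shortExact_of_degreewise_shortExact _
    (fun n => (CochainComplex.mappingCone.triangleRotateShortComplexSplitting φ n).shortExact)

end mappingCone

end Groth.Agent.ResProp.EF.K294
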