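import Groth.Agent.ResProp.EF.K294.Flat
import Groth.Agent.ResProp.EF.K290.TorBd

/-!
# The lower Tor bound of a chart is a `K290.TorBd`
-/

set_option autoImplicit false
set_option backward.defeqAttrib.useBackward true
set_option backward.isDefEq.respectTransparency false

universe w' w v u

open CategoryTheory CategoryTheory.Limits MonoidalCategory HomologicalComplex

namespace Groth.Agent.ResProp.EF.K294

open Groth.Agent.PerfB.RingKFlat

variable {A : Type u} [CommRing A]

namespace Chart

variable {C : Type v} [Category.{w} C] [Abelian C] (X : Chart A C)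

instance : PreservesFiniteColimits X.us := by
  have := X.adj.leftAdjoint_preservesColimits
  infer_instance

instance : X.us.PreservesHomology := inferInstance

instance preservesColimits_us {J : Type w'} [Category.{w} J] : PreservesColimitsOfShape J X.us := by
  have := X.adj.leftAdjoint_preservesColimits
  infer_instance

lemma preservesColimitsOfShape_us (J : Type*) [Category J] : PreservesColimitsOfShape J X.us :=
  X.adj.leftAdjoint_preservesColimits.1

lemma preservesColimitsOfShape_usC (J : Type*) [Category J] [HasColimitsOfShape J C] :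
    PreservesColimitsOfShape J X.usC := by
  have := X.preservesColimitsOfShape_us J
  apply HomologicalComplex.preservesColimitsOfShape_of_eval
  intro n
  exact inferInstanceAs (PreservesColimitsOfShape J (eval C (ComplexShape.up ℤ) n ⋙ X.us))

lemma shortExact_usC {S : ShortComplex (CochainComplex C ℤ)} (hS : S.ShortExact) :
    (S.map X.usC).ShortExact := by
  refine HomologicalComplex.shortExact_of_degreewise_shortExact _ (fun n => ?_)
  have h : (S.map (eval C (ComplexShape.up ℤ) n)).ShortExact := hS.map_of_exact (eval _ _ n)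
  exact h.map_of_exact X.us

lemma torGE_cone {m : ℤ} {Q K : CochainComplex C ℤ} (φ : Q ⟶ K) (hQ : TorGE (m + 1) (X.usC.obj Q))
    (hK : TorGE m (X.usC.obj K)) : TorGE m (X.usC.obj (CochainComplex.mappingCone φ)) := by
  have hS := X.shortExact_usC (shortExact_cone φ)
  refine TorGE.ses₂ hS hK ?_
  refine TorGE.of_iso ((X.usC.commShiftIso (1 : ℤ)).app Q).symm ?_
  exact (torGE_shift_iff _ 1).2 hQ

lemma torGE_shift {m : ℤ} {K : CochainComplex C ℤ} (i : ℤ) (hK : TorGE m (X.usC.obj K)) :
    TorGE (m - i) (X.usC.obj (K⟦i⟧)) := by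
  refine TorGE.of_iso ((X.usC.commShiftIso i).app K).symm ?_
  exact (torGE_shift_iff _ i).2 (by simpa using hK)

lemma torGE_colimit {m : ℤ} (K : ℕ ⥤ CochainComplex C ℤ) [HasColimitsOfShape ℕ C]
    (hK : ∀ j, TorGE m (X.usC.obj (K.obj j))) : TorGE m (X.usC.obj (colimit K)) := by
  have := X.preservesColimitsOfShape_usC ℕ
  have := hasExactColimitsOfShape_nat A
  have h1 : IsColimit (X.usC.mapCocone (colimit.cocone K)) :=
    isColimitOfPreserves X.usC (colimit.isColimit K)
  have h2 : ∀ M : ModuleCat.{u} A, PreservesColimitsOfShape ℕ (tensorLeft M) := fun M => inferInstance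
  have h := TorGE.of_isColimit (a := m) h1 hK
  exact h

lemma torGE_sum {m : ℤ} {ι : Type u} (K : ι → CochainComplex C ℤ) [HasCoproducts.{u} C]
    (hK : ∀ j, TorGE m (X.usC.obj (K j))) : TorGE m (X.usC.obj (∐ K)) := by
  have := X.preservesColimitsOfShape_usC (Discrete ι)
  have := hasExactColimitsOfShape_discrete A ι
  have h1 : IsColimit (X.usC.mapCocone (colimit.cocone (Discrete.functor K))) :=
    isColimitOfPreserves X.usC (colimit.isColimit (Discrete.functor K))
  have h2 : ∀ M : ModuleCat.{u} A, PreservesColimitsOfShape (Discrete ι) (tensorLeft M) :=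
    fun M => inferInstance
  have h := TorGE.of_isColimit (a := m) h1 (fun j => hK j.as)
  exact h

/-- `us` commutes with homology. -/
noncomputable def homologyIso (K : CochainComplex C ℤ) (i : ℤ) :
    (X.usC.obj K).homology i ≅ X.us.obj (K.homology i) :=
  (K.sc i).mapHomologyIso X.us

lemma flat_homology {K : CochainComplex C ℤ} (hK : TorGE 0 (X.usC.obj K))
    (h : ∀ i : ℤ, 0 < i → K.ExactAt i) : Module.Flat A (X.us.obj (K.homology 0)) := by
  have h1 : ∀ i : ℤ, 0 < i → (X.usC.obj K).ExactAt i := fun i hi => ShortComplex.Exact.map (h i hi) X.us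
  have h2 := hK.flat h1
  exact Module.Flat.of_linearEquiv (X.homologyIso K 0).symm.toLinearEquiv

/-- The abstract lower Tor bound of a chart. -/
noncomputable def torBd [HasCoproducts.{u} C] [HasColimitsOfShape ℕ C] : K290.TorBd X.us where
  LB m K := TorGE m (X.usC.obj K)
  mono h hK := hK.mono h
  shift i hK := X.torGE_shift i hK
  iso e hK := hK.of_iso (X.usC.mapIso e)
  cone φ hQ hK := X.torGE_cone φ hQ hK
  sum K hK := X.torGE_sum K hK
  col K hK := X.torGE_colimit K hK
  flat hK h := X.flat_homology hK h

end Chart

end Groth.Agent.ResProp.EF.K294
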