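import Groth.Agent.ResProp.EF.K294.Tor
import Mathlib.RingTheory.Flat.Tensor

/-!
# Flatness of `H^0` of a complex with Tor-amplitude `≥ 0` and no cohomology in degrees `> 0`
-/

set_option autoImplicit false
set_option backward.defeqAttrib.useBackward true
set_option backward.isDefEq.respectTransparency false

universe w' w v u

open CategoryTheory CategoryTheory.Limits MonoidalCategory HomologicalComplex

namespace Groth.Agent.ResProp.EF.K294

open Groth.Agent.Dcoh.KFlatAbs Groth.Agent.Dcoh.KFlatSingle Groth.Agent.Dcoh.KFlatBdd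
  Groth.Agent.PerfB.RingKFlat Groth.Agent.Dcoh.KFlatFlip Groth.Agent.Dcoh.KFlatSES
  Groth.Agent.Htor.H240.FlatTens

variable {A : Type u} [CommRing A]

/-- exactness in terms of elements -/
lemma exactAt_iff_elem (K : CM A) (i j k : ℤ) (hij : i + 1 = j) (hjk : j + 1 = k) :
    K.ExactAt j ↔ ∀ x : K.X j, (K.d j k).hom x = 0 → ∃ y : K.X i, (K.d i j).hom y = x := by
  rw [K.exactAt_iff' i j k (by simp; omega) (by simp; omega), ShortComplex.moduleCat_exact_iff]
  rfl

/-- the unit is a test complex -/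
lemma isTest_single : IsTest ((single (ModuleCat.{u} A) (ComplexShape.up ℤ) 0).obj (ModuleCat.of A A)) where
  le := inferInstance
  flat n := by
    by_cases hn : n = 0
    · subst hn
      have e := (singleObjXSelf (ComplexShape.up ℤ) 0 (ModuleCat.of A A)).toLinearEquiv
      exact Module.Flat.of_linearEquiv e
    · have h := isZero_single_obj_X (ComplexShape.up ℤ) 0 (ModuleCat.of A A) n hn
      have := ModuleCat.subsingleton_of_isZero h
      infer_instance
  exact i hi := exactAt_single_obj _ _ _ _ (by omega)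

lemma TorGE.exactAt {a : ℤ} {K : CM A} (h : TorGE a K) {i : ℤ} (hi : i < a) : K.ExactAt i := by
  have h1 := h _ isTest_single i hi
  let e1 : K ≅ (((TR A).flip.obj (ModuleCat.of A A)).mapHomologicalComplex (ComplexShape.up ℤ)).obj K :=
    HomologicalComplex.Hom.isoOfComponents (fun n => (ρ_ (K.X n)).symm) (fun i j _ => by
      dsimp
      exact (rightUnitor_inv_naturality (K.d i j)).symm)
  exact h1.of_iso (e1 ≪≫ singleIso (TR A) K (ModuleCat.of A A)).symm

/-- a cocycle killed by a degreewise epi quasi-isomorphism is a coboundary -/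
lemma exists_bound {F G : CM A} (p : F ⟶ G) [hq : QuasiIso p] (hp : ∀ j, Epi (p.f j)) (i k l : ℤ)
    (hik : i + 1 = k) (hkl : k + 1 = l) (a : F.X k)
    (ha : (F.d k l).hom a = 0) (hpa : (p.f k).hom a = 0) : ∃ c : F.X i, (F.d i k).hom c = a := by
  have : Epi p := HomologicalComplex.epi_of_epi_f _ hp
  let S : ShortComplex (CM A) := ShortComplex.mk (kernel.ι p) p (kernel.condition p)
  have hS : S.ShortExact := { exact := ShortComplex.exact_kernel p }
  have h1 : S.X₁.Acyclic := hS.acyclic_X₁ hq
  have h2 : (S.map (eval (ModuleCat.{u} A) (ComplexShape.up ℤ) k)).ShortExact := hS.map_of_exact (eval _ _ k)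
  have h3 : Function.Exact (S.f.f k).hom (S.g.f k).hom :=
    (ShortComplex.ShortExact.moduleCat_exact_iff_function_exact _).1 h2.exact
  obtain ⟨a', ha'⟩ := (h3 a).1 hpa
  have h4 : (S.X₁.d k l).hom a' = 0 := by
    have h5 : (S.map (eval (ModuleCat.{u} A) (ComplexShape.up ℤ) l)).ShortExact := hS.map_of_exact (eval _ _ l)
    have h6 : Function.Injective (S.f.f l).hom := (ModuleCat.mono_iff_injective _).1 h5.mono_f
    apply h6
    have h7 := congrArg (fun t => t.hom a') (S.f.comm k l)
    simp only [ModuleCat.hom_comp, LinearMap.comp_apply] at h7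
    rw [← h7, ha', map_zero]
    exact ha
  obtain ⟨c, hc⟩ := (exactAt_iff_elem S.X₁ i k l hik hkl).1 (h1 k) a' h4
  refine ⟨(S.f.f i).hom c, ?_⟩
  have h7 := congrArg (fun t => t.hom c) (S.f.comm i k)
  simp only [ModuleCat.hom_comp, LinearMap.comp_apply] at h7
  exact h7.trans (by rw [hc, ha'])

/-- a flat resolution of `A ⧸ I` which begins with a resolution of `I` followed by `A`. -/
theorem exists_test (I : Ideal A) : ∃ (L : CM A) (_ : IsTest L) (π : L.X (-1) ⟶ ModuleCat.of A I)
    (r : L.X 0 ⟶ ModuleCat.of A A), Epi π ∧ L.d (-1) 0 ≫ r = π ≫ ModuleCat.ofHom I.subtype ∧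
      L.d (-2) (-1) ≫ π = 0 ∧ IsIso r := by
  obtain ⟨F, p, hF, hF', hp', hp⟩ := Groth.Agent.Dcoh.LeftRes.exists_resolution_of_isStrictlyLE
    (goodClass_projective A) ((single (ModuleCat.{u} A) (ComplexShape.up ℤ) 0).obj (ModuleCat.of A I)) 0
  let j : ModuleCat.of A I ⟶ ModuleCat.of A A := ModuleCat.ofHom I.subtype
  have hj : Mono j := (ModuleCat.mono_iff_injective _).2 I.injective_subtype
  let φ : F ⟶ (single (ModuleCat.{u} A) (ComplexShape.up ℤ) 0).obj (ModuleCat.of A A) :=
    p ≫ (single (ModuleCat.{u} A) (ComplexShape.up ℤ) 0).map j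
  have hmono : ∀ k, Mono (((single (ModuleCat.{u} A) (ComplexShape.up ℤ) 0).map j).f k) := fun k =>
    inferInstance
  refine ⟨CochainComplex.mappingCone φ, ⟨?_, ?_, ?_⟩,
    (CochainComplex.mappingCone.fst φ).1.v (-1) 0 (by simp) ≫ p.f 0 ≫ (singleObjXSelf _ 0 _).hom,
    (CochainComplex.mappingCone.snd φ).v 0 0 (add_zero 0) ≫ (singleObjXSelf _ 0 _).hom, ?_, ?_, ?_, ?_⟩
  · rw [CochainComplex.isStrictlyLE_iff]
    intro i hi
    rw [CochainComplex.mappingCone.isZero_X_iff]
    exact ⟨F.isZero_of_isStrictlyLE 0 (i + 1) (by omega), CochainComplex.isZero_of_isStrictlyLE _ 0 i hi⟩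
  · intro n
    have h1 : Projective (F.X (n + 1)) := hF' _
    have h2 : Projective (((single (ModuleCat.{u} A) (ComplexShape.up ℤ) 0).obj (ModuleCat.of A A)).X n) := by
      by_cases hn : n = 0
      · subst hn
        have : Projective (ModuleCat.of A A) := (IsProjective.iff_projective (ModuleCat.of A A)).1 inferInstance
        exact Projective.of_iso (singleObjXSelf (ComplexShape.up ℤ) 0 (ModuleCat.of A A)).symm this
      · exact Projective.of_iso (isZero_single_obj_X (ComplexShape.up ℤ) 0 (ModuleCat.of A A) n hn).isoZero.symm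
          inferInstance
    have h3 : Projective ((CochainComplex.mappingCone φ).X n) :=
      Projective.of_iso (homotopyCofiber.XIsoBiprod φ n (n + 1) rfl).symm inferInstance
    have h4 : Module.Projective A ((CochainComplex.mappingCone φ).X n) := inferInstance
    infer_instance
  · intro i hi
    rw [exactAt_iff_elem _ (i - 1) i (i + 1) (by omega) rfl]
    intro x hx
    have hz : IsZero (((single (ModuleCat.{u} A) (ComplexShape.up ℤ) 0).obj (ModuleCat.of A A)).X i) :=
      isZero_single_obj_X _ _ _ _ (by omega)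
    have hz' : IsZero (((single (ModuleCat.{u} A) (ComplexShape.up ℤ) 0).obj (ModuleCat.of A A)).X (i - 1)) :=
      isZero_single_obj_X _ _ _ _ (by omega)
    set a : F.X (i + 1) := ((CochainComplex.mappingCone.fst φ).1.v i (i + 1) rfl).hom x with ha
    have h1 : (F.d (i + 1) (i + 2)).hom a = 0 := by
      have h := congrArg (fun t => t.hom x) (CochainComplex.mappingCone.d_fst_v φ i (i + 1) (i + 2) rfl (by omega))
      simp only [ModuleCat.hom_comp, LinearMap.comp_apply, ModuleCat.hom_neg,
        LinearMap.neg_apply] at h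
      rw [hx, map_zero] at h
      exact neg_eq_zero.1 h.symm
    have h2 : (φ.f (i + 1)).hom a = 0 := by
      have h := congrArg (fun t => t.hom x) (CochainComplex.mappingCone.d_snd_v φ i (i + 1) rfl)
      simp only [ModuleCat.hom_comp, LinearMap.comp_apply, ModuleCat.hom_add, LinearMap.add_apply] at h
      rw [hx, map_zero, hz.eq_of_tgt ((CochainComplex.mappingCone.snd φ).v i i (add_zero i)) 0] at h
      simpa using h.symm
    have h3 : (p.f (i + 1)).hom a = 0 := by
      have h4 : Function.Injective (((single (ModuleCat.{u} A) (ComplexShape.up ℤ) 0).map j).f (i + 1)).hom :=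
        (ModuleCat.mono_iff_injective _).1 (hmono (i + 1))
      apply h4
      rw [map_zero]
      exact h2
    obtain ⟨c, hc⟩ := exists_bound p hp' i (i + 1) (i + 2) rfl (by omega) a h1 h3
    refine ⟨-((CochainComplex.mappingCone.inl φ).v i (i - 1) (by omega)).hom c, ?_⟩
    have h5 := congrArg (fun t => t.hom c) (CochainComplex.mappingCone.inl_v_d φ i (i - 1) (i + 1) (by omega)
      (by omega))
    simp only [ModuleCat.hom_comp, LinearMap.comp_apply, ModuleCat.hom_sub, LinearMap.sub_apply] at h5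
    have h6 := congrArg (fun t => t.hom x) (CochainComplex.mappingCone.id_X φ i (i + 1) rfl)
    simp only [ModuleCat.hom_comp, LinearMap.comp_apply, ModuleCat.hom_add, LinearMap.add_apply,
      ModuleCat.hom_id, LinearMap.id_apply] at h6
    rw [map_neg, h5, hc]
    rw [hz.eq_of_tgt ((CochainComplex.mappingCone.snd φ).v i i (add_zero i)) 0] at h6
    rw [hz.eq_of_tgt (φ.f i) 0]
    simpa using h6
  · have h1 : Epi ((CochainComplex.mappingCone.fst φ).1.v (-1) 0 (by simp)) := by
      refine (SplitEpi.mk ((CochainComplex.mappingCone.inl φ).v 0 (-1) (by simp)) ?_).epi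
      exact CochainComplex.mappingCone.inl_v_fst_v φ 0 (-1) (by simp)
    have h2 := hp' 0
    infer_instance
  · have h0 : ((single (ModuleCat.{u} A) (ComplexShape.up ℤ) 0).obj (ModuleCat.of A A)).d (-1) 0 = 0 := rfl
    rw [CochainComplex.mappingCone.d_snd_v_assoc φ (-1) 0 (by simp), h0, comp_zero, add_zero]
    simp [φ, single_map_f_self, j]
  · have h0 : p.f (-1) = 0 := (isZero_single_obj_X (ComplexShape.up ℤ) 0 (ModuleCat.of A I) (-1)
      (by simp)).eq_of_tgt _ _
    rw [← Category.assoc, CochainComplex.mappingCone.d_fst_v φ (-2) (-1) 0 (by simp) (by simp)]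
    simp [← p.comm_assoc, h0]
  · have h0 : IsZero (F.X 1) := F.isZero_of_isStrictlyLE 0 1 (by simp)
    have h1 := CochainComplex.mappingCone.id_X φ 0 1 (by simp)
    rw [h0.eq_of_tgt ((CochainComplex.mappingCone.fst φ).1.v 0 1 (by simp)) 0, zero_comp, zero_add] at h1
    have h2 : IsIso ((CochainComplex.mappingCone.snd φ).v 0 0 (add_zero 0)) :=
      ⟨(CochainComplex.mappingCone.inr φ).f 0, h1, CochainComplex.mappingCone.inr_f_snd_v φ 0⟩
    infer_instance

/-- `M[0]` of Tor-amplitude `≥ 0`: `M` is flat. -/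
theorem flat_of_torGE_single (M : ModuleCat.{u} A)
    (h : TorGE 0 ((single (ModuleCat.{u} A) (ComplexShape.up ℤ) 0).obj M)) : Module.Flat A M := by
  rw [Module.Flat.iff_lTensor_injective']
  intro I
  obtain ⟨L, hL, π, r, hπ, hr, hdπ, hri⟩ := exists_test I
  have h1 : (((tensorLeft M).mapHomologicalComplex (ComplexShape.up ℤ)).obj L).ExactAt (-1) :=
    (h L hL (-1) (by simp)).of_iso (Groth.Agent.Dcoh.TensSingle.singleLeftIsoApp (TR A) M L).symm
  rw [exactAt_iff_elem _ (-2) (-1) 0 (by simp) (by simp)] at h1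
  rw [injective_iff_map_eq_zero]
  intro x hx
  obtain ⟨y, hy⟩ : ∃ y, (M ◁ π).hom y = x :=
    LinearMap.lTensor_surjective M ((ModuleCat.epi_iff_surjective π).1 hπ) x
  have h3 : M ◁ L.d (-1) 0 ≫ M ◁ r = M ◁ π ≫ M ◁ ModuleCat.ofHom I.subtype := by
    rw [← MonoidalCategory.whiskerLeft_comp, hr, MonoidalCategory.whiskerLeft_comp]
  have h4 : (M ◁ L.d (-1) 0).hom y = 0 := by
    have h5 : Function.Injective (M ◁ r).hom := (ModuleCat.mono_iff_injective _).1 inferInstance
    apply h5
    have h6 := congrArg (fun t => t.hom y) h3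
    simp only [ModuleCat.hom_comp, LinearMap.comp_apply] at h6
    rw [h6, hy, map_zero]
    exact hx
  obtain ⟨w, hw⟩ := h1 y h4
  have h7 : M ◁ L.d (-2) (-1) ≫ M ◁ π = 0 := by
    rw [← MonoidalCategory.whiskerLeft_comp, hdπ, MonoidalPreadditive.whiskerLeft_zero]
  have h8 := congrArg (fun t => t.hom w) h7
  simp only [ModuleCat.hom_comp, LinearMap.comp_apply] at h8
  rw [← hy, ← hw]
  exact h8

/-- Tor-amplitude `≥ 0` and no cohomology in degrees `> 0`: `H^0` is flat. -/
theorem TorGE.flat {K : CM A} (h : TorGE 0 K) (h' : ∀ i : ℤ, 0 < i → K.ExactAt i) :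
    Module.Flat A (K.homology 0) := by
  have h1 : K.IsGE 0 := by
    rw [CochainComplex.isGE_iff]
    exact fun i hi => h.exactAt hi
  have h2 : K.IsLE 0 := by
    rw [CochainComplex.isLE_iff]
    exact fun i hi => h' i hi
  have q1 : QuasiIso (K.ιTruncLE 0) := (K.quasiIso_ιTruncLE_iff 0).2 inferInstance
  have h3 : (K.truncLE 0).IsGE 0 := by
    rw [CochainComplex.isGE_iff]
    intro i hi
    rw [exactAt_iff_of_quasiIsoAt (K.ιTruncLE 0) i]
    exact h.exactAt hi
  have q2 : QuasiIso ((K.truncLE 0).πTruncGE 0) := ((K.truncLE 0).quasiIso_πTruncGE_iff 0).2 inferInstance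
  obtain ⟨M, ⟨e⟩⟩ := ((K.truncLE 0).truncGE 0).exists_iso_single 0
  have h4 : TorGE 0 ((single (ModuleCat.{u} A) (ComplexShape.up ℤ) 0).obj M) :=
    TorGE.of_iso e ((torGE_iff_of_quasiIso ((K.truncLE 0).πTruncGE 0)).1
      ((torGE_iff_of_quasiIso (K.ιTruncLE 0)).2 h))
  have h5 : Module.Flat A M := flat_of_torGE_single M h4
  let e1 : K.homology 0 ≅ M := (asIso (homologyMap (K.ιTruncLE 0) 0)).symm ≪≫
    asIso (homologyMap ((K.truncLE 0).πTruncGE 0) 0) ≪≫
    (homologyFunctor _ _ 0).mapIso e ≪≫ (homologyFunctorSingleIso _ _ 0).app M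
  exact Module.Flat.of_linearEquiv e1.toLinearEquiv

end Groth.Agent.ResProp.EF.K294
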