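import Groth.Agent.ResProp.EF.K294.TorBdInst

/-!
# The P-step: raising the lower Tor bound by one, keeping all hits
-/

set_option autoImplicit false
set_option backward.defeqAttrib.useBackward true
set_option backward.isDefEq.respectTransparency false

universe w' w v u

open CategoryTheory CategoryTheory.Limits MonoidalCategory HomologicalComplex

namespace Groth.Agent.ResProp.EF.K294

open Groth.Agent.PerfB.RingKFlat

variable {A : Type u} [CommRing A]

section modules

/-- the cone of the identity is acyclic -/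
lemma acyclic_cone_id (K : CM A) : (CochainComplex.mappingCone (𝟙 K)).Acyclic := by
  intro i
  rw [exactAt_iff_elem _ (i - 1) i (i + 1) (by omega) rfl]
  intro x hx
  refine ⟨((CochainComplex.mappingCone.inl (𝟙 K)).v i (i - 1) (by omega)).hom
    (((CochainComplex.mappingCone.snd (𝟙 K)).v i i (add_zero i)).hom x), ?_⟩
  have h1 := congrArg (fun t => t.hom (((CochainComplex.mappingCone.snd (𝟙 K)).v i i (add_zero i)).hom x))
    (CochainComplex.mappingCone.inl_v_d (𝟙 K) i (i - 1) (i + 1) (by omega) (by omega))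
  have h2 := congrArg (fun t => t.hom x) (CochainComplex.mappingCone.d_snd_v (𝟙 K) i (i + 1) rfl)
  have h3 := congrArg (fun t => t.hom x) (CochainComplex.mappingCone.id_X (𝟙 K) i (i + 1) rfl)
  simp only [ModuleCat.hom_comp, LinearMap.comp_apply, ModuleCat.hom_add, LinearMap.add_apply,
    ModuleCat.hom_sub, LinearMap.sub_apply, ModuleCat.hom_id, LinearMap.id_apply, HomologicalComplex.id_f]
    at h1 h2 h3
  rw [hx, map_zero] at h2
  have h4 : (K.d i (i + 1)).hom (((CochainComplex.mappingCone.snd (𝟙 K)).v i i (add_zero i)).hom x) =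
      - ((CochainComplex.mappingCone.fst (𝟙 K)).1.v i (i + 1) rfl).hom x :=
    eq_neg_of_add_eq_zero_right h2.symm
  rw [h1, h4, map_neg, sub_neg_eq_add, add_comm]
  exact h3

/-- a flat module in degree `0` -/
lemma torGE_single (M : ModuleCat.{u} A) [hM : Module.Flat A M] :
    TorGE 0 ((single (ModuleCat.{u} A) (ComplexShape.up ℤ) 0).obj M) := by
  intro L hL i hi
  have := preservesHomology_tensorLeft M hM
  have h1 : (((tensorLeft M).mapHomologicalComplex (ComplexShape.up ℤ)).obj L).ExactAt i :=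
    ShortComplex.Exact.map (hL.exact i hi) (tensorLeft M)
  exact h1.of_iso (Groth.Agent.Dcoh.TensSingle.singleLeftIsoApp (TR A) M L)

/-- a degreewise epimorphism from a complex of Tor-amplitude `≥ 0`, onto on the cocycles of degree `0`. -/
theorem exists_cover (K : CM A) : ∃ (G' : CM A) (π : G' ⟶ K) (G : ModuleCat.{u} A) (c : G ⟶ K.cycles 0)
    (g : (single (ModuleCat.{u} A) (ComplexShape.up ℤ) 0).obj G ⟶ G'),
    TorGE 0 G' ∧ Epi π ∧ Epi c ∧
      (singleObjXSelf (ComplexShape.up ℤ) 0 G).inv ≫ g.f 0 ≫ π.f 0 = c ≫ K.iCycles 0 := by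
  obtain ⟨pr⟩ := EnoughProjectives.presentation (K.cycles 0)
  have hpr := pr.epi
  have hpr' := pr.projective
  have hflat : Module.Flat A pr.p := by
    have : Module.Projective A pr.p := inferInstance
    infer_instance
  let Q : CM A := CochainComplex.mappingCone (𝟙 (K⟦(-1 : ℤ)⟧))
  let q : Q ⟶ K := (CochainComplex.mappingCone.triangle (𝟙 (K⟦(-1 : ℤ)⟧))).mor₃ ≫
    (shiftNegShift K (1 : ℤ)).hom
  have hq : Epi q := by
    have h := (shortExact_cone (𝟙 (K⟦(-1 : ℤ)⟧))).epi_g
    have h' : Epi (CochainComplex.mappingCone.triangle (𝟙 (K⟦(-1 : ℤ)⟧))).mor₃ := h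
    infer_instance
  let g0 : (single (ModuleCat.{u} A) (ComplexShape.up ℤ) 0).obj pr.p ⟶ K :=
    mkHomFromSingle (pr.f ≫ K.iCycles 0) (fun k _ => by simp)
  refine ⟨Q ⊞ (single (ModuleCat.{u} A) (ComplexShape.up ℤ) 0).obj pr.p, biprod.desc q g0, pr.p, pr.f,
    biprod.inr, ?_, ?_, hpr, ?_⟩
  · have hS := (ShortComplex.Splitting.ofHasBinaryBiproduct Q
      ((single (ModuleCat.{u} A) (ComplexShape.up ℤ) 0).obj pr.p)).shortExact
    exact TorGE.ses₂ hS (TorGE.of_acyclic (acyclic_cone_id _)) (torGE_single _)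
  · have : Epi (biprod.inl ≫ biprod.desc q g0) := by
      rw [biprod.inl_desc]; exact hq
    exact epi_of_epi biprod.inl _
  · rw [← HomologicalComplex.comp_f, biprod.inr_desc]
    simp [g0]

end modules

namespace Chart

variable {C : Type v} [Category.{w} C] [Abelian C] (X : Chart A C)

/-- the unit on complexes -/
noncomputable def eta (T : CochainComplex C ℤ) : T ⟶ X.ulC.obj (X.usC.obj T) where
  f n := X.adj.unit.app (T.X n)
  comm' i j _ := (X.adj.unit.naturality (T.d i j)).symm

/-- the counit on complexes -/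
noncomputable def eps (K : CM A) : X.usC.obj (X.ulC.obj K) ⟶ K where
  f n := X.adj.counit.app (K.X n)
  comm' i j _ := (X.adj.counit.naturality (K.d i j)).symm

lemma eta_eps (T : CochainComplex C ℤ) : X.usC.map (X.eta T) ≫ X.eps (X.usC.obj T) = 𝟙 _ := by
  ext n : 1
  exact X.adj.left_triangle_components (T.X n)

instance mono_unit (Z : C) : Mono (X.adj.unit.app Z) := by
  have h : Mono (X.us.map (X.adj.unit.app Z)) :=
    (SplitMono.mk (X.adj.counit.app (X.us.obj Z)) (X.adj.left_triangle_components Z)).mono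
  exact X.us.mono_of_mono_map h

instance mono_eta (T : CochainComplex C ℤ) : Mono (X.eta T) :=
  HomologicalComplex.mono_of_mono_f _ (fun n => X.mono_unit (T.X n))

/-- Tor bound of `ul us T` -/
lemma torGE_ulC {a : ℤ} {K : CM A} (h : TorGE a K) : TorGE a (X.usC.obj (X.ulC.obj K)) :=
  X.torGE_ul a K h

/-- Tor bound of the cokernel of the unit -/
lemma torGE_cokernel_eta {a : ℤ} {T : CochainComplex C ℤ} (h : TorGE a (X.usC.obj T)) :
    TorGE a (X.usC.obj (cokernel (X.eta T))) := by
  let S : ShortComplex (CochainComplex C ℤ) := ShortComplex.mk (X.eta T) (cokernel.π (X.eta T))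
    (cokernel.condition _)
  have hS : S.ShortExact := { exact := ShortComplex.exact_cokernel (X.eta T) }
  have hS' := X.shortExact_usC hS
  have := hS'.epi_g
  let σ : (S.map X.usC).Splitting := ShortComplex.Splitting.ofExactOfRetraction (S.map X.usC) hS'.exact
    (X.eps (X.usC.obj T)) (X.eta_eps T) hS'.epi_g
  exact TorGE.of_retract σ.s (S.map X.usC).g σ.s_g (X.torGE_ulC h)

end Chart

section pullbacks

/-- `0 → T ×_W G → G → W ⧸ T → 0` for `T` mono in `W` and `G` onto `W`. -/
lemma shortExact_pullback {D : Type v} [Category.{w} D] [Abelian D] {T W G : D} (η : T ⟶ W) [Mono η]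
    (ρ : G ⟶ W) [Epi ρ] :
    (ShortComplex.mk (pullback.snd η ρ) (ρ ≫ cokernel.π η) (by
      rw [← pullback.condition_assoc, cokernel.condition, comp_zero])).ShortExact where
  exact := by
    have hex : (ShortComplex.mk η (cokernel.π η) (cokernel.condition η)).Exact :=
      ShortComplex.exact_cokernel η
    have hm : Mono (ShortComplex.mk η (cokernel.π η) (cokernel.condition η)).f := ‹Mono η›
    refine ShortComplex.exact_of_f_is_kernel _ (KernelFork.IsLimit.ofι' _ _ (fun {Z} k hk => ?_))
    have hk' : (k ≫ ρ) ≫ cokernel.π η = 0 := by simpa using hk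
    refine ⟨pullback.lift (hex.lift (k ≫ ρ) hk') k (hex.lift_f (k ≫ ρ) hk'), ?_⟩
    exact pullback.lift_snd _ _ _
  mono_f := by
    change Mono (pullback.snd η ρ)
    infer_instance
  epi_g := by
    change Epi (ρ ≫ cokernel.π η)
    infer_instance

variable {P U Y Z : ModuleCat.{u} A} {fst : P ⟶ U} {snd : P ⟶ Y} {f : U ⟶ Z} {g : Y ⟶ Z}

lemma isPullback_exists (h : IsPullback fst snd f g) (x : U) (y : Y) (hxy : f.hom x = g.hom y) :
    ∃ p : P, fst.hom p = x ∧ snd.hom p = y := by
  have w : ModuleCat.ofHom (LinearMap.toSpanSingleton A U x) ≫ f =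
      ModuleCat.ofHom (LinearMap.toSpanSingleton A Y y) ≫ g := by
    ext
    simpa using hxy
  refine ⟨(h.lift _ _ w).hom (1 : A), ?_, ?_⟩
  · have h1 : (h.lift _ _ w ≫ fst).hom (1 : A) = x := by
      rw [h.lift_fst]
      simp
    exact h1
  · have h1 : (h.lift _ _ w ≫ snd).hom (1 : A) = y := by
      rw [h.lift_snd]
      simp
    exact h1

lemma isPullback_zero (h : IsPullback fst snd f g) (p : P) (h1 : fst.hom p = 0) (h2 : snd.hom p = 0) :
    p = 0 := by
  have h3 : ModuleCat.ofHom (LinearMap.toSpanSingleton A P p) = 0 := by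
    refine h.hom_ext ?_ ?_
    · ext
      simpa using h1
    · ext
      simpa using h2
  have h4 := congrArg (fun t => t.hom (1 : A)) h3
  simpa using h4

end pullbacks

namespace Chart

variable {C : Type v} [Category.{w} C] [Abelian C] (X : Chart A C)

/-- The P-step. -/
theorem step {a : ℤ} (ha : a < 0) (T : CochainComplex C ℤ) (h : TorGE a (X.usC.obj T)) :
    ∃ (T₁ : CochainComplex C ℤ) (p : T₁ ⟶ T), TorGE (a + 1) (X.usC.obj T₁) ∧
      ∀ t : X.us.obj (T.X 0), (X.us.map (T.d 0 1)).hom t = 0 →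
        ∃ t₁ : X.us.obj (T₁.X 0), (X.us.map (T₁.d 0 1)).hom t₁ = 0 ∧ (X.us.map (p.f 0)).hom t₁ = t := by
  obtain ⟨G', π, G, c, g, hG', hπ, hc, hg⟩ := exists_cover (X.usC.obj T)
  let ρ : X.ulC.obj G' ⟶ X.ulC.obj (X.usC.obj T) := X.ulC.map π
  have hρ : Epi ρ := by
    refine HomologicalComplex.epi_of_epi_f _ (fun n => ?_)
    have : Epi (π.f n) := inferInstance
    change Epi (X.ul.map (π.f n))
    infer_instance
  have hpb : ∀ n : ℤ, IsPullback (X.us.map ((pullback.fst (X.eta T) ρ).f n))
      (X.us.map ((pullback.snd (X.eta T) ρ).f n)) (X.us.map ((X.eta T).f n)) (X.us.map (ρ.f n)) := fun n =>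
    (IsPullback.of_hasPullback (X.eta T) ρ).map (eval C (ComplexShape.up ℤ) n ⋙ X.us)
  refine ⟨pullback (X.eta T) ρ, pullback.fst _ _, ?_, ?_⟩
  · have hS := X.shortExact_usC (shortExact_pullback (X.eta T) ρ)
    refine TorGE.ses₁ hS ((X.torGE_ulC hG').mono (by omega)) ?_
    exact (X.torGE_cokernel_eta h).mono (by omega)
  · intro t ht
    let Φ : ModuleCat.{u} A ⥤ ModuleCat.{u} A := X.ul ⋙ X.us
    have : PreservesFiniteLimits X.ul := by
      have := X.adj.rightAdjoint_preservesLimits
      infer_instance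
    let y : Φ.obj ((X.usC.obj T).X 0) := (X.us.map ((X.eta T).f 0)).hom t
    have hy : (Φ.map ((X.usC.obj T).d 0 1)).hom y = 0 := by
      have h1 := congrArg (fun φ => (X.us.map φ).hom t) ((X.eta T).comm 0 1)
      simp only [Functor.map_comp, ModuleCat.hom_comp, LinearMap.comp_apply] at h1
      refine h1.trans ?_
      rw [ht, map_zero]
    have hex : (ShortComplex.mk ((X.usC.obj T).iCycles 0) ((X.usC.obj T).d 0 1)
        ((X.usC.obj T).iCycles_d 0 1)).Exact :=
      ShortComplex.exact_of_f_is_kernel _ ((X.usC.obj T).cyclesIsKernel 0 1 (by simp))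
    have hex' := hex.map Φ
    rw [ShortComplex.moduleCat_exact_iff] at hex'
    obtain ⟨z, hz⟩ := hex' y hy
    have hc' : Epi (Φ.map c) := inferInstance
    obtain ⟨s, hs⟩ := (ModuleCat.epi_iff_surjective _).1 hc' z
    let s' : Φ.obj (G'.X 0) := (Φ.map ((singleObjXSelf (ComplexShape.up ℤ) 0 G).inv ≫ g.f 0)).hom s
    have hs' : (Φ.map (π.f 0)).hom s' = y := by
      have h1 : (Φ.map ((singleObjXSelf (ComplexShape.up ℤ) 0 G).inv ≫ g.f 0) ≫ Φ.map (π.f 0)).hom s = y := by
        rw [← Functor.map_comp, Category.assoc, hg, Functor.map_comp, ModuleCat.hom_comp,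
          LinearMap.comp_apply, hs]
        exact hz
      exact h1
    have hs'' : (Φ.map (G'.d 0 1)).hom s' = 0 := by
      have h1 : ((singleObjXSelf (ComplexShape.up ℤ) 0 G).inv ≫ g.f 0) ≫ G'.d 0 1 = 0 := by
        rw [Category.assoc, g.comm 0 1]
        simp
      have h2 : (Φ.map ((singleObjXSelf (ComplexShape.up ℤ) 0 G).inv ≫ g.f 0) ≫ Φ.map (G'.d 0 1)).hom s = 0 := by
        rw [← Functor.map_comp, h1, Functor.map_zero]
        rfl
      exact h2
    obtain ⟨t₁, h1, h2⟩ := isPullback_exists (hpb 0) t s' hs'.symm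
    refine ⟨t₁, ?_, h1⟩
    refine isPullback_zero (hpb 1) _ ?_ ?_
    · have h3 := congrArg (fun φ => (X.us.map φ).hom t₁) ((pullback.fst (X.eta T) ρ).comm 0 1)
      simp only [Functor.map_comp, ModuleCat.hom_comp, LinearMap.comp_apply] at h3
      rw [← h3, h1, ht]
    · have h3 := congrArg (fun φ => (X.us.map φ).hom t₁) ((pullback.snd (X.eta T) ρ).comm 0 1)
      simp only [Functor.map_comp, ModuleCat.hom_comp, LinearMap.comp_apply] at h3
      rw [← h3, h2]
      exact hs''

end Chart

end Groth.Agent.ResProp.EF.K294
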